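import Cfsg.Agent.Lib.TCK.Defs
import Cfsg.Agent.Lib.TCK.U64
import Cfsg.Agent.Lib.Rank2.Hig
import Cfsg.Agent.S3224

/-! Sylow 2-subgroups with cyclic centre of simple groups of 2-rank two (plan, section Syl). -/

set_option autoImplicit false

namespace Cfsg.Lib.TCK
open Subgroup Cfsg.Lib Cfsg.Lib.FT Cfsg.Lib.Bender Cfsg.Lib.TGC
open scoped commutatorElement

variable {G : Type*} [Group G] [Finite G]

/-- the four-group `⟨z, x⟩` with two movers -/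
structure SyPre (S : Subgroup G) (z x y v : G) : Prop where
  syl : IsSylowIn 2 S ⊤
  rk : PRankLE 2 2 G
  zS : z ∈ S
  zi : IsInv z
  zc : S ≤ C1[z]
  zu : ∀ c ∈ S ⊓ C[S], c * c = 1 → c = 1 ∨ c = z
  xS : x ∈ S
  xi : IsInv x
  xz : x ≠ z
  yS : y ∈ S
  yx : y * x * y⁻¹ = x * z
  y2 : y * y ∈ C1[x]
  yN : y ∈ N[S ⊓ C1[x]]
  vN : v ∈ N[S ⊓ C1[x]]
  vx : v * x * v⁻¹ = x
  vz : v * z * v⁻¹ = x * z

theorem exists_syPre [IsSimpleGroup G] (hG : ¬ IsMulCommutative G) (h2 : PRankLE 2 2 G) {S : Subgroup G}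
    (hS : IsSylowIn 2 S ⊤) {z : G} (zS : z ∈ S) (zi : IsInv z) (zc : S ≤ C1[z])
    (zu : ∀ c ∈ S ⊓ C[S], c * c = 1 → c = 1 ∨ c = z) : ∃ x y v, SyPre S z x y v := by
  obtain ⟨g, hg, hgz⟩ : ∃ g : G, Commute z (g * z * g⁻¹) ∧ g * z * g⁻¹ ≠ z := by
    by_contra! hno
    have h0 : 2 ∣ Nat.card G := zi.orderOf_eq ▸ orderOf_dvd_natCard z
    have := zstar_center (pg_pPrimeCore_eq_bot_of_simple h0) zi.sq hno
    rw [pg_center_eq_bot_of_simple hG] at this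
    exact zi.1 this
  obtain ⟨Q, hQ, hle⟩ := exists_isSylowIn_ge (K := C1[z] ⊓ C1[g * z * g⁻¹]) (zi.conj g).isPGroup
    (zpowers_le.2 ⟨mem_C1.2 hg.symm, mem_C1_self _⟩)
  obtain ⟨k, hk, hkQ⟩ := (hS.mono zc le_top).exists_conj_le hQ.isPGroup (hQ.le.trans inf_le_left)
  have kz : k * z * k⁻¹ = z := by rw [mem_C1.1 hk, mul_inv_cancel_right]
  obtain ⟨x, hx⟩ : ∃ x, x = k * (g * z * g⁻¹) * k⁻¹ := ⟨_, rfl⟩
  have xi : IsInv x := hx ▸ (zi.conj g).conj k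
  have xS : x ∈ S := hkQ (mem_map_conj.2 (by
    rw [hx, show k⁻¹ * (k * (g * z * g⁻¹) * k⁻¹) * k = g * z * g⁻¹ by group]; exact hle (mem_zpowers _)))
  have xz : x ≠ z := fun e => hgz (by
    rw [hx] at e; rw [← kz] at e
    have := mul_left_cancel (mul_right_cancel e)
    rwa [kz] at this)
  have hP : IsSylowIn 2 (S ⊓ C1[x]) (C1[z] ⊓ C1[x]) := by
    have h1 := hQ.map_conj k
    rw [map_conj_inf, ← GW.c1_conj, ← GW.c1_conj, kz, ← hx] at h1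
    rwa [h1.maximal (S ⊓ C1[x]) hS.isPGroup.to_inf_left (inf_le_inf_right _ zc)
      (le_inf hkQ (h1.le.trans inf_le_right))]
  have zx : Commute x z := mem_C1.1 (zc xS)
  have inv : ∀ t ∈ S ⊓ C1[x], t * t = 1 → t = 1 ∨ t = x ∨ t = z ∨ t = x * z := fun t ht h =>
    mem_of_rank h2 xi zi xz zx h (mem_C1.1 ht.2) (mem_C1.1 (zc ht.1))
  have hlt : ¬ S ≤ C1[x] := fun h => (zu x ⟨xS, le_C1_iff.1 h⟩ xi.2).elim xi.1 xz
  obtain ⟨y, yS, y1, yN, y2⟩ := exists_up (N := S) hP.isPGroup inf_le_left fun h =>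
    hlt (by rw [h.maximal S hS.isPGroup le_rfl inf_le_left]; exact inf_le_right)
  obtain ⟨v, vx, v1, vN, v2⟩ := exists_up (N := C1[x]) hP.isPGroup inf_le_right fun h => by
    have e : x = (k * g) * z * (k * g)⁻¹ := by rw [hx]; group
    have h3 := h.card_dvd (hS.isPGroup.map (MulAut.conj (k * g)).toMonoidHom) (by
      rw [e, GW.c1_conj]; exact map_mono zc)
    rw [card_map_conj] at h3
    exact hlt (by
      rw [← eq_of_le_of_card_ge (inf_le_left : S ⊓ C1[x] ≤ S) (Nat.le_of_dvd Nat.card_pos h3)]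
      exact inf_le_right)
  have vx' : v * x * v⁻¹ = x := by rw [mem_C1.1 vx, mul_inv_cancel_right]
  refine ⟨x, y, v, hS, h2, zS, zi, zc, zu, xS, xi, xz, yS, ?_, y2.2, yN, vN, vx', ?_⟩
  · rcases inv _ (conj_mem yN ⟨xS, mem_C1_self x⟩) (xi.conj y).2 with e | e | e | e
    · exact ((xi.conj y).1 e).elim
    · exact (y1 ⟨yS, mem_C1.2 (mul_inv_eq_iff_eq_mul.1 e)⟩).elim
    · rw [mul_inv_eq_iff_eq_mul, ← mem_C1.1 (zc yS)] at e
      exact (xz (mul_left_cancel e)).elim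
    · exact e
  · rcases inv _ (conj_mem vN ⟨zS, mem_C1.2 zx.symm⟩) (zi.conj v).2 with e | e | e | e
    · exact ((zi.conj v).1 e).elim
    · rw [← vx'] at e
      exact (xz (mul_left_cancel (mul_right_cancel e)).symm).elim
    · exact (v1 (IsSylowIn.mem_of_ext hP ⟨mem_C1.2 (mul_inv_eq_iff_eq_mul.1 e), vx⟩ vN v2)).elim
    · exact e

namespace SyPre
variable {S : Subgroup G} {z x y v : G} (h : SyPre S z x y v)
include h

omit [Finite G] in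
theorem zx : Commute x z := mem_C1.1 (h.zc h.xS)

omit [Finite G] in
theorem cz {s : G} (hs : s ∈ S) : s * z * s⁻¹ = z := by rw [mem_C1.1 (h.zc hs), mul_inv_cancel_right]

omit [Finite G] in
theorem xP : x ∈ S ⊓ C1[x] := ⟨h.xS, mem_C1_self x⟩

omit [Finite G] in
theorem zP : z ∈ S ⊓ C1[x] := ⟨h.zS, mem_C1.2 h.zx.symm⟩

omit [Finite G] in
theorem yxz : y * (x * z) * y⁻¹ = x := by rw [← conj_mul, h.yx, h.cz h.yS, mul_assoc, h.zi.2, mul_one]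

omit [Finite G] in
theorem y1 : y ∉ C1[x] := fun e => by
  have := h.yx
  rw [mem_C1.1 e, mul_inv_cancel_right] at this
  exact h.zi.1 (by simpa using this)

theorem inv {t : G} (ht : t ∈ S ⊓ C1[x]) (tt : t * t = 1) : t = 1 ∨ t = x ∨ t = z ∨ t = x * z :=
  mem_of_rank h.rk h.xi h.zi h.xz h.zx tt (mem_C1.1 ht.2) (mem_C1.1 (h.zc ht.1))

theorem key {s : G} (hs : s ∈ S) (hx : s * x * s⁻¹ ∈ C1[x]) : s ∈ C1[x] ∨ s * y ∈ C1[x] := by
  rcases h.inv ⟨S.mul_mem (S.mul_mem hs h.xS) (S.inv_mem hs), hx⟩ (h.xi.conj s).2 with e | e | e | e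
  · exact ((h.xi.conj s).1 e).elim
  · exact Or.inl (mem_C1.2 (mul_inv_eq_iff_eq_mul.1 e))
  · rw [← h.cz hs] at e
    exact (h.xz (mul_left_cancel (mul_right_cancel e))).elim
  · refine Or.inr (mem_C1.2 (mul_inv_eq_iff_eq_mul.1 ?_))
    rw [show s * y * x * (s * y)⁻¹ = s * (y * x * y⁻¹) * s⁻¹ by group, h.yx, ← conj_mul, e, h.cz hs, mul_assoc,
      h.zi.2, mul_one]

theorem cen4 : R2.Cen4 (⟨z, h.zP⟩ : ↥(S ⊓ C1[x])) ⟨x, h.xP⟩ :=
  R2.cen4_of_rank (pRankLE_subgroup h.rk _) (Subtype.ext h.zi.2) (Subtype.ext h.xi.2)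
    (fun e => h.zi.1 (congrArg Subtype.val e)) (fun e => h.xi.1 (congrArg Subtype.val e))
    (fun e => h.xz (congrArg Subtype.val e).symm) (fun b => Subtype.ext (mem_C1.1 (h.zc b.2.1)).symm)
    fun b => Subtype.ext (mem_C1.1 b.2.2).symm

theorem comm {a b : G} (ha : a ∈ S ⊓ C1[x]) (hb : b ∈ S ⊓ C1[x]) : Commute a b := by
  haveI : Fact (Nat.Prime 3) := ⟨Nat.prime_three⟩
  by_contra hne
  have rN : y * v ∈ N[S ⊓ C1[x]] := mul_mem h.yN h.vN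
  have c : ∀ t, y * v * t * (y * v)⁻¹ = y * (v * t * v⁻¹) * y⁻¹ := fun t => by group
  have r1 : y * v * z * (y * v)⁻¹ = x := by rw [c, h.vz, h.yxz]
  have r2 : y * v * x * (y * v)⁻¹ = x * z := by rw [c, h.vx, h.yx]
  have r3 : (y * v) ^ 3 ∈ C1[z] := by
    generalize y * v = r at r1 r2
    rw [mem_C1, ← mul_inv_eq_iff_eq_mul, show r ^ 3 * z * (r ^ 3)⁻¹ = r * (r * (r * z * r⁻¹) * r⁻¹) * r⁻¹ by
      simp [pow_succ, mul_assoc],
      r1, r2, ← conj_mul, r1, r2, mul_assoc, ← h.zx.eq, ← mul_assoc, h.xi.2, one_mul]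
  obtain ⟨r, w, e, hc, ⟨k, hk⟩, hw, hr, hw'⟩ := exists_pPart (p := 3) (y * v)
  have wz : w ∈ C1[z] := by
    obtain ⟨j, rfl⟩ := mem_zpowers_iff.1 hw'
    refine mem_of_pow_mem_of_coprime ((Nat.Prime.coprime_iff_not_dvd Nat.prime_three).2 hw) ?_
    rw [← zpow_natCast, ← zpow_mul, mul_comm, zpow_mul, zpow_natCast]
    exact zpow_mem r3 j
  have hrN := zpowers_le.2 rN hr
  have hU := h.cen4.isU h.syl.isPGroup.to_inf_left (ρ := R2.nAut _ hrN) (R2.nAut_pow hrN hk) (fun e' => by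
    have := congrArg Subtype.val e'
    rw [R2.nAut_coe] at this
    rw [e, show r * w * z * (r * w)⁻¹ = r * (w * z * w⁻¹) * r⁻¹ by group, mem_C1.1 wz, mul_inv_cancel_right] at r1
    exact h.xz (r1.symm.trans this)) ⟨⟨a, ha⟩, ⟨b, hb⟩, fun e' => hne (congrArg Subtype.val e')⟩
  refine not_isU hU (R2.nAut _ h.yN) (Subtype.ext (h.cz h.yS)) (fun e' => h.y1 ?_)
    (p := ⟨y * y, mul_mem h.yS h.yS, h.y2⟩) fun b => Subtype.ext ?_
  · exact mem_C1.2 (mul_inv_eq_iff_eq_mul.1 (congrArg Subtype.val e'))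
  · simp only [R2.nAut_coe, coe_mul, coe_inv, mul_inv_rev, mul_assoc]

theorem one [IsSimpleGroup G] (hG : ¬ IsMulCommutative G) {M : Subgroup G} (hM : M.relIndex S = 2)
    (hi : ∀ t ∈ M, IsInv t → t ∈ S ⊓ C1[x]) (t : G) (ht : IsInv t) : ∃ g : G, g * z * g⁻¹ = t := by
  obtain ⟨T, rfl⟩ := h.syl.exists_sylow_top
  obtain ⟨g, hg⟩ := thompson_transfer T hM ht.sq (by
    rw [pResidual_eq_top_of_commutator_eq_top ((IsSimpleGroup.eq_bot_or_eq_top_of_normal _ inferInstance).resolve_left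
      fun e => hG (by rwa [commutator_eq_bot_iff] at e))]; exact mem_top t)
  have : ∃ k : G, k * z * k⁻¹ = g * t * g⁻¹ := by
    rcases h.inv (hi _ hg (ht.conj g)) (ht.conj g).2 with e | e | e | e
    · exact ((ht.conj g).1 e).elim
    · exact ⟨y * v, by rw [e, ← h.yxz, ← h.vz]; group⟩
    · exact ⟨1, by simp [e]⟩
    · exact ⟨v, by rw [e, h.vz]⟩
  obtain ⟨k, hk⟩ := this
  exact ⟨g⁻¹ * k, by rw [show g⁻¹ * k * z * (g⁻¹ * k)⁻¹ = g⁻¹ * (k * z * k⁻¹) * g by group, hk]; group⟩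

omit [Finite G] in
theorem zC : z ∈ C[S] := le_C1_iff.1 h.zc

omit [Finite G] in
theorem ZP {c : G} (hc : c ∈ S ⊓ C[S]) : c ∈ S ⊓ C1[x] := ⟨hc.1, mem_C1.2 (hc.2 x h.xS).symm⟩

theorem case1 [IsSimpleGroup G] (hG : ¬ IsMulCommutative G) (h1 : ∀ p ∈ S ⊓ C1[x], p * p = 1) :
    ∃ a u, Sy S z x y a u := by
  have h4 : Nat.card ↥(S ⊓ C1[x]) = 4 := by
    rw [← h.cen4.card_Z, (eq_top_iff' _).2 fun p => h.cen4.mem_Z.2 (Subtype.ext (h1 p p.2)), card_top]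
  obtain ⟨m, A, hm, -, ha, hi, -, -⟩ := Agent.S3224.aux h.syl.isPGroup ⟨x, h.xS⟩
    (by rw [← Subgroup.orderOf_coe, h.xi.orderOf_eq]) (by
      rw [← h4, ← card_subgroupOf_eq_inf]
      congr 2; ext y
      simp [mem_subgroupOf, mem_centralizer_singleton_iff, Subtype.ext_iff]) fun e =>
      h.y1 ((eq_of_le_of_card_ge (inf_le_left : S ⊓ C1[x] ≤ S) (by omega)).ge h.yS).2
  obtain ⟨a, aS⟩ := A
  rw [Subgroup.orderOf_mk] at ha
  obtain ⟨m, rfl⟩ : ∃ k, m = k + 1 := ⟨m - 1, by omega⟩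
  have key : ∀ g : S, (g : G) ∈ zpowers a ↔ g ∈ zpowers ⟨a, aS⟩ := fun g =>
    ⟨fun ⟨k, hk⟩ => ⟨k, Subtype.ext hk⟩, fun ⟨k, hk⟩ => ⟨k, congrArg Subtype.val hk⟩⟩
  have two : ∀ s ∈ S, ∀ t ∈ S, s * t ∈ zpowers a ↔ (s ∈ zpowers a ↔ t ∈ zpowers a) := fun s hs t ht => by
    rw [key ⟨s, hs⟩, key ⟨t, ht⟩, ← mul_mem_iff_of_index_two hi, ← key]; rfl
  have nrm : ∀ s ∈ S, ∀ c ∈ zpowers a, s * c * s⁻¹ ∈ zpowers a := fun s hs c hc => by
    have cS := zpowers_le.2 aS hc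
    rw [two _ (mul_mem hs cS) _ (inv_mem hs), two _ hs _ cS, inv_mem_iff]; tauto
  have cm : ∀ c ∈ zpowers a, ∀ d ∈ zpowers a, Commute c d := by
    rintro _ ⟨i, rfl⟩ _ ⟨j, rfl⟩; exact zpow_mul_comm a i j
  obtain ⟨u, hu⟩ : ∃ u, u = a ^ 2 ^ m := ⟨_, rfl⟩
  have uA : u ∈ zpowers a := hu ▸ pow_mem (mem_zpowers a) _
  have uS : u ∈ S := zpowers_le.2 aS uA
  have u1 : u * u ≠ 1 := fun e => by
    rw [hu, ← pow_add, ← two_mul, ← pow_succ'] at e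
    have := Nat.le_of_dvd (by positivity) (ha ▸ orderOf_dvd_of_pow_eq_one e)
    rw [pow_succ _ (m + 1)] at this
    have : 0 < 2 ^ (m + 1) := by positivity
    omega
  have u2 : u * u * (u * u) = 1 := by
    rw [hu, ← pow_add, ← pow_add, ← pow_orderOf_eq_one a, ha]; congr 1; ring
  have uz : u * u = z := (h.zu _ ⟨mul_mem uS uS, fun s hs => by
    rw [← mul_inv_eq_iff_eq_mul]
    exact GW.eq_of_mem_zpowers_of_mul_self (nrm s hs _ (mul_mem uA uA)) (mul_mem uA uA)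
      (IsInv.conj ⟨u1, u2⟩ s).1 u1 (IsInv.conj ⟨u1, u2⟩ s).2 u2⟩ u2).resolve_left u1
  have uni : ∀ t ∈ zpowers a, t * t = 1 → t = 1 ∨ t = z := fun t ht tt => or_iff_not_imp_left.2 fun t1 =>
    GW.eq_of_mem_zpowers_of_mul_self ht (uz ▸ mul_mem uA uA) t1 h.zi.1 tt h.zi.2
  refine ⟨a, u, h.syl, h.rk, h.zS, h.zi, h.zc, h.zu, h.xS, h.xi, h.xz, h.yS, h.yx,
    h.one hG (M := zpowers a) ?_ fun t ht ti => ?_, aS, fun s hs s1 t ht => ?_, fun s hs t ht s1 t1 => ?_, uS,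
    fun e => u1 (h1 u (h.ZP ⟨uS, e⟩)), uz ▸ h.zC, fun c hc => ?_, Or.inl fun s hs => ?_⟩
  · rw [← hi, relIndex]; congr 1; ext g; exact key g
  · rw [(uni t ht ti.2).resolve_left ti.1]; exact h.zP
  · have s2 : s ∉ zpowers a := fun e => s1 (mem_sup_left e)
    have s3 := (two s hs s hs).2 Iff.rfl
    by_cases e : t ∈ zpowers a
    · exact cm _ e _ s3
    · have := cm _ ((two t ht _ (inv_mem hs)).2 (iff_of_false e (by rwa [inv_mem_iff]))) _ s3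
      have := this.mul_left ((Commute.refl s).mul_right (Commute.refl s))
      rwa [inv_mul_cancel_right] at this
  · exact mem_sup_left ((two s hs t ht).2 (iff_of_false (fun e => s1 (mem_sup_left e)) fun e => t1 (mem_sup_left e)))
  · rw [(show Commute u c from hc.2 u uS).symm.mul_mul_mul_comm, h1 c (h.ZP hc), mul_one]; exact u1
  · have e1 := nrm s hs u uA
    rcases uni ⁅s, u⁆ (mul_mem e1 (inv_mem uA)) (by
      rw [commutatorElement_def, (cm _ (inv_mem uA) _ e1).mul_mul_mul_comm, conj_mul, ← mul_inv_rev, uz, h.cz hs,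
        mul_inv_cancel]) with e | e <;> rw [e]
    exacts [one_mem _, h.zC]

omit [Finite G] in
theorem sq_mem {r : G} (hr : r ∈ S ⊓ C1[x] ∨ r * y ∈ S ⊓ C1[x]) : r * r ∈ S ⊓ C1[x] := by
  rcases hr with hr | hr
  · exact mul_mem hr hr
  · have := mul_mem (mul_mem hr (conj_mem' h.yN hr)) (inv_mem (⟨mul_mem h.yS h.yS, h.y2⟩ : y * y ∈ S ⊓ C1[x]))
    convert this using 1
    simp [mul_assoc]

theorem two {e : G} (he : e ∈ S ⊓ C1[x]) (ex : e * e = x) {s : G} (hs : s ∈ S) : s ∈ C1[x] ∨ s * y ∈ C1[x] := by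
  obtain ⟨R, hR, -, yR, mem⟩ := ext2 h.syl.isPGroup.to_inf_left h.yN ⟨mul_mem h.yS h.yS, h.y2⟩
  have RS : R ≤ S := fun r hr => ((mem r).1 hr).elim (·.1) fun e => (mul_mem_cancel_right h.yS).1 e.1
  have : IsSylowIn 2 R S := by
    by_contra hn
    obtain ⟨g, gS, g1, gN, -⟩ := exists_up hR RS hn
    have := h.sq_mem ((mem _).1 (conj_mem gN ((mem e).2 (Or.inl he))))
    rw [conj_mul, ex] at this
    exact g1 ((mem g).2 ((h.key gS this.2).imp (fun e => ⟨gS, e⟩) fun e => ⟨mul_mem gS h.yS, e⟩))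
  rw [this.maximal S h.syl.isPGroup le_rfl RS] at hs
  exact ((mem s).1 hs).imp (·.2) (·.2)

theorem exists_e (h1 : ¬ ∀ p ∈ S ⊓ C1[x], p * p = 1) :
    ∃ m : ℕ, (∀ p ∈ S ⊓ C1[x], p ^ 2 ^ (m + 2) = 1) ∧ ∃ e ∈ S ⊓ C1[x], e ^ 2 ^ (m + 1) = x := by
  classical
  obtain ⟨n, hn⟩ := IsPGroup.iff_card.1 (h.syl.isPGroup.to_inf_left (K := C1[x]))
  have ex : ∃ m : ℕ, ∀ p ∈ S ⊓ C1[x], p ^ 2 ^ (m + 1) = 1 := ⟨n, fun p hp => by
    have : p ^ 2 ^ n = 1 := congrArg Subtype.val (hn ▸ pow_card_eq_one' (x := (⟨p, hp⟩ : ↥(S ⊓ C1[x]))))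
    rw [pow_succ, pow_mul, this, one_pow]⟩
  obtain ⟨m, hm⟩ : ∃ m, Nat.find ex = m + 1 := Nat.exists_eq_succ_of_ne_zero fun e => h1 fun p hp => by
    have := Nat.find_spec ex p hp
    rwa [e, zero_add, pow_one, sq] at this
  have h2 := Nat.find_spec ex
  rw [hm] at h2
  have h3 := Nat.find_min ex (m := m) (by omega)
  push Not at h3
  obtain ⟨p, hp, p1⟩ := h3
  refine ⟨m, h2, ?_⟩
  rcases h.inv (pow_mem hp (2 ^ (m + 1))) (by rw [← pow_add, ← two_mul, ← pow_succ', h2 p hp]) with e | e | e | e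
  · exact (p1 e).elim
  · exact ⟨p, hp, e⟩
  · exact ⟨_, conj_mem h.yN (conj_mem h.vN hp), by rw [conj_pow, conj_pow, e, h.vz, h.yxz]⟩
  · exact ⟨_, conj_mem h.yN hp, by rw [conj_pow, e, h.yxz]⟩

theorem case2 [IsSimpleGroup G] (hG : ¬ IsMulCommutative G) (h1 : ¬ ∀ p ∈ S ⊓ C1[x], p * p = 1) :
    ∃ a u, Sy S z x y a u := by
  obtain ⟨m, hm, e, he, ex⟩ := h.exists_e h1
  have two : ∀ s ∈ S, s ∉ C1[x] → s * y ∈ S ⊓ C1[x] := fun s hs s1 => ⟨mul_mem hs h.yS,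
    (h.two (pow_mem he (2 ^ m)) (by rw [← pow_add, ← two_mul, ← pow_succ', ex]) hs).resolve_left s1⟩
  have y2 : y * y ∈ S ⊓ C1[x] := ⟨mul_mem h.yS h.yS, h.y2⟩
  have cen : ∀ c ∈ S ⊓ C1[x], ∀ s ∈ S, s ∉ C1[x] → Commute s c → c ∈ C[S] := fun c hc s hs s1 e t ht => by
    by_cases t1 : t ∈ C1[x]
    · exact h.comm ⟨ht, t1⟩ hc
    · have := (h.comm (mul_mem (two t ht t1) (inv_mem (two s hs s1))) hc).mul_left e
      rwa [show t * y * (s * y)⁻¹ * s = t by group] at this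
  have sq : ∀ s ∈ S, s ∉ C1[x] → s * s ∈ C[S] := fun s hs s1 =>
    cen _ (h.sq_mem (Or.inr (two s hs s1))) s hs s1 ((Commute.refl s).mul_right (Commute.refl s))
  let φ : ↥(S ⊓ C1[x]) →* G := MonoidHom.mk' (fun p => y * p * y⁻¹ * (p : G)⁻¹) fun p q => by
    have c1 := h.comm (inv_mem p.2) (mul_mem (conj_mem h.yN q.2) (inv_mem q.2))
    simp only [coe_mul, mul_inv_rev]
    rw [mul_assoc (y * p * y⁻¹), c1.eq]; group
  have φa : ∀ p, φ p = y * p * y⁻¹ * (p : G)⁻¹ := fun _ => rfl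
  have φP : φ.range ≤ S ⊓ C1[x] := by
    rintro _ ⟨p, rfl⟩; exact mul_mem (conj_mem h.yN p.2) (inv_mem p.2)
  have φi : ∀ t ∈ φ.range, y * t * y⁻¹ = t⁻¹ := by
    rintro _ ⟨p, rfl⟩
    rw [φa, show y * (y * p * y⁻¹ * (p : G)⁻¹) * y⁻¹ = y * y * p * (y * y)⁻¹ * (y * p * y⁻¹)⁻¹ by
      simp [mul_assoc], (h.comm y2 p.2).eq, mul_inv_cancel_right]
    simp [mul_assoc]
  have φu : ∀ t ∈ φ.range, orderOf t = 2 → t = z := fun t ht o => by
    have tt : t * t = 1 := by rw [← _root_.sq, ← o, pow_orderOf_eq_one]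
    have := φi t ht
    rw [inv_eq_of_mul_eq_one_right tt] at this
    rcases h.inv (φP ht) tt with e | e | e | e
    · rw [e, orderOf_one] at o; omega
    · exact (h.y1 (mem_C1.2 (mul_inv_eq_iff_eq_mul.1 (e ▸ this)))).elim
    · exact e
    · rw [e, h.yxz] at this
      exact (h.zi.1 (by simpa using this)).elim
  have hc : IsCyclic φ.range := by
    refine (pg_two_group_unique_involution (h.syl.isPGroup.to_le (φP.trans inf_le_left)) fun a b ha hb =>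
      Subtype.ext ((φu a a.2 ((orderOf_coe a).trans ha)).trans (φu b b.2 ((orderOf_coe b).trans hb)).symm)).resolve_right
      fun ⟨m, a, b, hm, _, h3, _, _, _, h7⟩ => ?_
    rw [show b * a = a * b from Subtype.ext (h.comm (φP b.2) (φP a.2)), mul_inv_cancel_right,
      eq_inv_iff_mul_eq_one, ← _root_.sq] at h7
    have := Nat.le_of_dvd two_pos (h3 ▸ orderOf_dvd_of_pow_eq_one h7)
    have := Nat.pow_le_pow_right two_pos (Nat.succ_le_succ hm)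
    omega
  obtain ⟨⟨_, a, rfl⟩, ha⟩ := hc.exists_generator
  have gen : S ⊓ C1[x] ≤ zpowers (a : G) ⊔ S ⊓ C[S] := fun p hp => by
    obtain ⟨k, hk⟩ := mem_zpowers_iff.1 (ha ⟨φ ⟨p, hp⟩, _, rfl⟩)
    have e1 : φ ((a ^ k)⁻¹ * ⟨p, hp⟩) = 1 := by
      rw [map_mul, map_inv, map_zpow, inv_mul_eq_one]; exact congrArg Subtype.val hk
    rw [φa, mul_inv_eq_one, mul_inv_eq_iff_eq_mul] at e1
    have e2 := ((a ^ k)⁻¹ * ⟨p, hp⟩).2
    rw [show p = (a : G) ^ k * (((a ^ k)⁻¹ * ⟨p, hp⟩ : ↥(S ⊓ C1[x])) : G) by simp]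
    exact mul_mem_sup (zpow_mem (mem_zpowers _) k) ⟨e2.1, cen _ e2 y h.yS h.y1 e1⟩
  have gen' : zpowers (a : G) ⊔ S ⊓ C[S] ≤ S ⊓ C1[x] := sup_le (zpowers_le.2 a.2) fun c hc => h.ZP hc
  have he' := conj_mem h.yN he
  have w0 : e * (y * e * y⁻¹) ∈ S ⊓ C[S] := ⟨(mul_mem he he').1, cen _ (mul_mem he he') y h.yS h.y1 (by
    rw [Commute, SemiconjBy, ← mul_inv_eq_iff_eq_mul, show y * (e * (y * e * y⁻¹)) * y⁻¹ =
      y * e * y⁻¹ * (y * y * e * (y * y)⁻¹) by simp [mul_assoc], (h.comm y2 he).eq, mul_inv_cancel_right,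
      (h.comm he he').eq])⟩
  have wz : (e * (y * e * y⁻¹)) ^ 2 ^ (m + 1) = z := by
    rw [(h.comm he he').mul_pow, conj_pow, ex, h.yx, ← mul_assoc, h.xi.2, one_mul]
  have ey : e * y ∉ C1[x] := fun e' => h.y1 ((C1[x].mul_mem_cancel_left he.2).1 e')
  obtain ⟨u, uS, u1, uni⟩ : ∃ u ∈ S, u ∉ C1[x] ∧ ∀ c ∈ S ⊓ C[S], u * c * (u * c) ≠ 1 := by
    by_contra! hn
    obtain ⟨c, hc, e1⟩ := hn y h.yS h.y1
    obtain ⟨d, hd, e2⟩ := hn _ (mul_mem he.1 h.yS) ey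
    rw [(show Commute y c from hc.2 y h.yS).symm.mul_mul_mul_comm] at e1
    rw [(show Commute (e * y) d from hd.2 _ (mul_mem he.1 h.yS)).symm.mul_mul_mul_comm,
      show e * y * (e * y) = e * (y * e * y⁻¹) * (y * y) by simp [mul_assoc], eq_inv_of_mul_eq_one_left e1,
      mul_assoc, mul_eq_one_iff_eq_inv] at e2
    have cd : Commute c d := hd.2 c hc.1
    have := hm _ (mul_mem (inv_mem (h.ZP hd)) (h.ZP hc))
    rw [pow_succ', pow_mul, _root_.sq, cd.inv_right.mul_mul_mul_comm, ← mul_inv_rev,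
      show (d * d)⁻¹ * (c * c) = ((c * c)⁻¹ * (d * d))⁻¹ by simp [mul_assoc], ← e2, wz] at this
    exact h.zi.1 this
  refine ⟨a, u, h.syl, h.rk, h.zS, h.zi, h.zc, h.zu, h.xS, h.xi, h.xz, h.yS, h.yx,
    h.one hG (M := S ⊓ C1[x]) ?_ fun t ht _ => ht, a.2.1, fun s hs s1 => sq s hs fun e => s1 (gen ⟨hs, e⟩),
    fun s hs t ht s1 t1 => gen ?_, uS, fun e => u1 (h.ZP ⟨uS, e⟩).2, sq u uS u1, uni,
    Or.inr ⟨_, pow_mem w0 (2 ^ m), by rw [← pow_add, ← two_mul, ← pow_succ', wz]⟩⟩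
  · refine relIndex_eq_two_iff.2 ⟨y, h.yS, fun b hb => ?_⟩
    by_cases b1 : b ∈ C1[x]
    · exact Or.inr ⟨⟨hb, b1⟩, fun e => h.y1 ((mul_mem_cancel_left b1).1 e.2)⟩
    · exact Or.inl ⟨two b hb b1, fun e => b1 e.2⟩
  · have := mul_mem (mul_mem (two s hs fun e => s1 (gen ⟨hs, e⟩))
      (conj_mem' h.yN (two t ht fun e => t1 (gen ⟨ht, e⟩)))) (inv_mem y2)
    convert this using 1
    simp [mul_assoc]

end SyPre

theorem exists_sy [IsSimpleGroup G] (hG : ¬ IsMulCommutative G) (h2 : PRankLE 2 2 G) {S : Subgroup G}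
    (hS : IsSylowIn 2 S ⊤) {z : G} (zS : z ∈ S) (zi : IsInv z) (zc : S ≤ C1[z])
    (zu : ∀ c ∈ S ⊓ C[S], c * c = 1 → c = 1 ∨ c = z) : ∃ x y a u, Sy S z x y a u := by
  obtain ⟨x, y, v, h⟩ := exists_syPre hG h2 hS zS zi zc zu
  refine ⟨x, y, ?_⟩
  by_cases h1 : ∀ p ∈ S ⊓ C1[x], p * p = 1
  exacts [h.case1 hG h1, h.case2 hG h1]

end Cfsg.Lib.TCK
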