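import Cfsg.Agent.Lib.TCK.E8
import Cfsg.Agent.Lib.TCK.Syl
import Cfsg.Agent.Lib.TCK.Struct
import Cfsg.Agent.Lib.TCK.Kill
import Cfsg.Agent.Lib.TGC.Main

/-! Thompson's core killing theorem. -/

set_option autoImplicit false

namespace Cfsg.Lib.TCK
open Subgroup Cfsg.Lib Cfsg.Lib.FT Cfsg.Lib.Bender Cfsg.Lib.TGC

variable {G : Type*} [Group G] [Finite G]

theorem Hyp.eq_bot [IsSimpleGroup G] (hG : ¬ IsMulCommutative G) {S : Sylow 2 G} {W : Subgroup G} (h : Hyp S W) {t : G}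
    (ht : IsInv t) : W = ⊥ := by
  have hO : oddCore G = ⊥ := pg_pPrimeCore_eq_bot_of_simple (ht.orderOf_eq ▸ orderOf_dvd_natCard t)
  by_cases h2 : PRankLE 2 2 G
  swap
  · exact kill (fun g a _ => th_conj g a) hO (e8_of_rank hG h2) h.syl h.odd h.SW h.fix
  by_contra hW
  have hM : N[W] ≠ ⊤ := fun e => hW (eq_bot_of_odd_normal hO h.odd e)
  obtain ⟨k, -, hk⟩ := conj_into h.syl ht (mem_top t)
  obtain ⟨z, zS, z2, zc⟩ := pg_exists_fixed_of_order_p S.isPGroup' S.isPGroup' le_normalizer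
    fun e => (ht.conj k).1 (by rwa [e, mem_bot] at hk)
  have zi := isInv_iff_orderOf.2 z2
  by_cases zu : ∀ c ∈ (S : Subgroup G) ⊓ C[(S : Subgroup G)], c * c = 1 → c = 1 ∨ c = z
  · obtain ⟨x, y, a, u, s⟩ := exists_sy hG h2 h.syl zS zi (le_C1_iff.2 zc) zu
    by_cases hH : C1[z] ≤ N[W]
    · exact hW (se_bot1 hO hM zi s.xi s.xz.symm (mem_C1.1 (s.zc s.xS)).symm hH (fun t ht it => by
        obtain ⟨g, rfl⟩ := s.one t it
        exact h.fus zS zi s.zc ht) h.odd le_normalizer le_rfl)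
    · obtain ⟨r, c⟩ := s.cfg h hH
      exact c.false
  push Not at zu
  obtain ⟨c, cS, c2, c1, cz⟩ := zu
  have ci : IsInv c := ⟨c1, c2⟩
  have cm : Commute z c := mem_C_iff.1 cS.2 z zS
  have h4 : R2.Cen4 (⟨z, zS⟩ : (S : Subgroup G)) ⟨c, cS.1⟩ := R2.cen4_of_rank
    (pRankLE_subgroup_iff.2 fun E _ hE => h2 E hE.1 hE.2) (Subtype.ext zi.2) (Subtype.ext c2)
    (fun e => zi.1 (congrArg Subtype.val e)) (fun e => c1 (congrArg Subtype.val e))
    (fun e => cz (congrArg Subtype.val e).symm) (fun b => Subtype.ext (mem_C_iff.1 zc b b.2).symm)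
    fun b => Subtype.ext (mem_C_iff.1 cS.2 b b.2).symm
  have k1 : ∀ a ∈ (S : Subgroup G), IsInv a → C1[a] ≤ N[W] := fun a ha ia g hg => by
    obtain ⟨b, hb⟩ := h4.exists_of (a := ⟨a, ha⟩) (Subtype.ext ia.2) fun e => ia.1 (congrArg Subtype.val e)
    obtain ⟨o, ho, d, hd, e⟩ := hb.core_le_or (g := ⟨g, hg⟩)
    rw [show g = o * d from congrArg Subtype.val e]
    refine mul_mem (le_normalizer (h.th_le (h.SW ha) ia ⟨o, ho, rfl⟩)) (h.four ia (b := b)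
      ⟨fun e => hb.w1 (Subtype.ext e), congrArg Subtype.val hb.ww⟩ (fun e => hb.zw (Subtype.ext e))
      (congrArg Subtype.val (hb.zc b)) (h.SW ha) (h.SW b.2) ?_ ?_)
    · rw [mem_C1.1 d.2, mul_inv_cancel_right]; exact h.SW ha
    · rw [hd, mul_inv_cancel_right]; exact h.SW b.2
  refine hW (se_bot hO hM zi ci cz.symm cm (h.SW zS) (fun t ht it g hg => ?_) h.odd le_normalizer le_rfl)
  obtain ⟨m, hm, e⟩ := conj_into (h.syl.mono h.SW le_top) it ht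
  obtain ⟨n, hn, e'⟩ := conj_into (h.syl.mono h.SW le_top) (it.conj g) hg
  have k2 : ∀ b ∈ C[(S : Subgroup G)], m * g⁻¹ * n⁻¹ * b * (m * g⁻¹ * n⁻¹)⁻¹ ∈ N[W] := fun b hb =>
    k1 _ e (it.conj m) (by
      have := ZD.C1_conj (mem_C1.2 (mem_C_iff.1 hb _ e').symm) (m * g⁻¹ * n⁻¹)
      rwa [show m * g⁻¹ * n⁻¹ * (n * (g * t * g⁻¹) * n⁻¹) * (m * g⁻¹ * n⁻¹)⁻¹ = m * t * m⁻¹ by group] at this)
  simpa [mul_assoc] using inv_mem (mul_mem (mul_mem (inv_mem hm)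
    (h.four zi ci cz.symm cm (h.SW zS) (h.SW cS.1) (k2 z zc) (k2 c cS.2))) hn)

end Cfsg.Lib.TCK
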